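import Cfsg.Agent.FiTypes.Two
import Cfsg.Agent.FiTypes.ThreeData
import Cfsg.Agent.FiBig.Core

/-!
The model on 31671 points is of type M(23).
-/

set_option autoImplicit false
set_option linter.unusedSectionVars false
set_option linter.style.haveILetI false
set_option maxRecDepth 100000
set_option Elab.async false

namespace Cfsg.Lib.FiTypes

open Cfsg Subgroup Cfsg.Lib.CosetCert Cfsg.Lib.PermCert Cfsg.Lib.ThreeTr
open Cfsg.Lib.FiTwenty (allFrom allFrom_add allFrom_zero)

theorem three_table : tableOK threeTab FiTwenty.sigTabs 10 31671 7 351 7 = true := by decide +kernel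

/-- The scan at one point: the common neighbours, and the points fixed by the first member. -/
def threeAt (y : ℕ) : Bool :=
  pairAt threeTab FiTwenty.sigTabs 10 351 threeMask [9] y &&
    ((evalW FiTwenty.sigTabs [10] y != y) || (y == 0) || FiTwenty.subTree1Mask.testBit y)

theorem three_scan0 : allFrom 0 8000 threeAt = true := by decide +kernel

theorem three_scan1 : allFrom 8000 8000 threeAt = true := by decide +kernel

theorem three_scan2 : allFrom 16000 8000 threeAt = true := by decide +kernel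

theorem three_scan3 : allFrom 24000 7671 threeAt = true := by decide +kernel

theorem three_scan : ∀ y < 31671, threeAt y = true := fun _ hy =>
  allFrom_zero (allFrom_add (allFrom_add (allFrom_add three_scan0 three_scan1) three_scan2) three_scan3) hy

theorem three_mask : maskOK threeTab 351 threeMask = true := by decide +kernel

theorem three_apart :
    (evalW FiTwenty.sigTabs [10] (evalW FiTwenty.sigTabs [9] 0) != evalW FiTwenty.sigTabs [9] 0) = true := by
  decide +kernel

attribute [local irreducible] FiTwenty.sig0 FiTwenty.sig1 FiTwenty.sig2 FiTwenty.sig3 FiTwenty.sig4 FiTwenty.sig5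
  FiTwenty.sig6 FiTwenty.sig7 FiTwenty.sig8 FiTwenty.sig9 FiTwenty.sig10 FiTwenty.subTree1Mask threeTab threeMask

theorem three_points : Points FiTwenty.imZ FiTwenty.sigTabs 10 FiTwenty.p0 FiBig.tr where
  zero := rfl
  lt := Nat.lt_succ_self 10
  base := FiBig.tr_p0
  sq l hl := FiTwenty.tabled.sq l hl
  inj _ _ h := FiBig.tr_inj h
  smul := FiBig.tr_smul
  act w hw x := by
    rw [FiTwenty.smul_eq, map_inv]
    exact evalW_apply FiTwenty.imZ FiTwenty.psi FiTwenty.sigTabs FiTwenty.tabled.act w hw x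

/-- The second member. -/
noncomputable def threeC : Cfsg.Spor.Fi23 := FiBig.tr ((wval FiTwenty.imZ [9])⁻¹ • FiTwenty.p0)

theorem nine_lt : ∀ l ∈ [9], l < FiTwenty.sigTabs.length := fun l hl => by
  rw [List.mem_singleton] at hl
  subst hl
  exact Nat.le.step (Nat.le_refl 10)

theorem three_not_commute : ¬ Commute (FiTwenty.imZ 10) threeC := three_points.apart nine_lt three_apart

theorem three_center : center Cfsg.Spor.Fi23 = ⊥ := by
  haveI := FiTwenty.simple_fi
  exact center_eq_bot_of_simple three_not_commute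

theorem three_group : IsThreeTranspositionGroup FiTwenty.transp :=
  ⟨FiTwenty.transp_class.1, fun g d hd => conj_mem FiTwenty.transp_class g hd, FiTwenty.transp_class.2.2⟩

theorem zero_perp : FiTwenty.imZ 0 ∈ perp FiTwenty.transp (FiTwenty.imZ 10) := by
  obtain ⟨u, j, hj, hu⟩ := FiTwenty.z_conj
  obtain ⟨v, hv⟩ := FiTwenty.letter_conj j hj
  have hg : FiTwenty.im 0 = (u * v)⁻¹ * FiTwenty.imZ 10 * (u * v) := by rw [hu, hv]; group
  have h0 : 0 ∈ FiTwenty.lamH := by decide
  refine ⟨FiTwenty.mem_transp.2 ⟨(u * v)⁻¹, by rw [FiTwenty.imZ_low (k := 0) (by norm_num), hg, inv_inv]⟩, fun e => ?_,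
    (FiTwenty.z_comm (lgp_mem FiTwenty.imZ h0)).symm⟩
  have h1 : FiTwenty.down ⟨FiTwenty.imZ 0, lgp_mem FiTwenty.imZ h0⟩ = FiPres.im10 0 :=
    FiTwenty.down_eq (FiTwenty.agrees_gen h0)
  rw [show (⟨FiTwenty.imZ 0, lgp_mem FiTwenty.imZ h0⟩ : lgp FiTwenty.imZ FiTwenty.lamH) = FiTwenty.zH from
    Subtype.ext e, FiTwenty.down_z] at h1
  exact FiPres.im10_zero_ne h1.symm

theorem perp_point {x : Cfsg.Spor.Fi23} (hx : x ∈ perp FiTwenty.transp (FiTwenty.imZ 10)) :
    ∃ q, FiBig.tr q = x ∧ q ∈ maskPts 31671 FiTwenty.subTree1Mask := by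
  obtain ⟨q, rfl⟩ := FiBig.tr_surj hx.1
  refine ⟨q, rfl, ?_⟩
  have h := three_scan q.val q.isLt
  simp only [threeAt, Bool.and_eq_true, Bool.or_eq_true, bne_iff_ne, beq_iff_eq] at h
  rcases h.2 with (h1 | h1) | h1
  · refine absurd ?_ h1
    rw [← three_points.single, three_points.base]
    exact congrArg Fin.val ((FiBig.commute_tr _ _).1 hx.2.2)
  · refine absurd ?_ hx.2.1
    rw [show q = FiTwenty.p0 from Fin.ext h1, FiBig.tr_p0]
  · exact h1

theorem three_neighbour : (perp FiTwenty.transp (FiTwenty.imZ 10)).Nonempty := ⟨_, zero_perp⟩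

theorem closure_perp_three : closure (perp FiTwenty.transp (FiTwenty.imZ 10)) = lgp FiTwenty.imZ FiTwenty.lamH := by
  haveI : Finite Cfsg.Spor.Fi23 := Nat.finite_of_card_ne_zero (by rw [FiTwenty.faithful_all.1]; norm_num)
  haveI := FiPres.simple_fi
  have hd : FiTwenty.imZ 10 ∈ FiTwenty.transp := IsConj.refl _
  rw [closure_perp_eq_centralizer FiTwenty.transp_class hd (FiTwenty.centralizer_transp hd) three_neighbour,
    FiTwenty.centralizer_z]

theorem three_primitive : IsPrimitiveUnderConj FiTwenty.transp := by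
  haveI : Finite Cfsg.Spor.Fi23 := Nat.finite_of_card_ne_zero (by rw [FiTwenty.faithful_all.1]; norm_num)
  haveI := FiTwenty.simple_fi
  refine primitive_of_simple FiTwenty.transp_class three_center
    ⟨FiTwenty.imZ 10, IsConj.refl _, _, zero_perp.1, zero_perp.2.1.symm, zero_perp.2.2⟩ ?_
  rw [commutator_eq_top_of_simple three_not_commute]
  exact MulEquiv.isSimpleGroup Subgroup.topEquiv

/-- The members commuting with one member are, modulo the centre, the class on 3510 points. -/
theorem three_desc : ∃ i : ↥(closure (perp FiTwenty.transp (FiTwenty.imZ 10))) ⧸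
      center ↥(closure (perp FiTwenty.transp (FiTwenty.imZ 10))) ≃* Cfsg.Spor.Fi22,
    i '' ((QuotientGroup.mk : ↥(closure (perp FiTwenty.transp (FiTwenty.imZ 10))) → _) ''
      {x | (x : Cfsg.Spor.Fi23) ∈ perp FiTwenty.transp (FiTwenty.imZ 10)}) = FiPres.transp := by
  set P := perp FiTwenty.transp (FiTwenty.imZ 10) with hP
  let c : ↥(closure P) ≃* ↥(lgp FiTwenty.imZ FiTwenty.lamH) := MulEquiv.subgroupCongr closure_perp_three
  let F : ↥(closure P) →* Cfsg.Spor.Fi22 := FiTwenty.down.comp c.toMonoidHom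
  have hker : F.ker ≤ center ↥(closure P) := fun x hx => by
    have hc : c x ∈ center ↥(lgp FiTwenty.imZ FiTwenty.lamH) := FiTwenty.center_eq.symm ▸ hx
    refine mem_center_iff.2 fun y => c.injective ?_
    rw [map_mul, map_mul]
    exact mem_center_iff.1 hc (c y)
  obtain ⟨i, hi⟩ := center_quotient_map F (FiTwenty.down_surjective.comp c.surjective) hker two_center
  refine ⟨i, ?_⟩
  rw [Set.image_image]
  have h0 : 0 ∈ FiTwenty.lamH := by decide
  let y0 : ↥(closure P) := ⟨FiTwenty.imZ 0, subset_closure zero_perp⟩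
  have hy0 : F y0 = FiPres.im10 0 := FiTwenty.down_eq (FiTwenty.agrees_gen h0)
  have hconj : ∀ g : ↥(closure P), (g * y0 * g⁻¹ : ↥(closure P)).val ∈ P := fun g => by
    refine conj_mem_perp' FiTwenty.transp_class ?_ zero_perp
    rw [FiTwenty.centralizer_z, ← closure_perp_three]
    exact g.2
  ext v
  constructor
  · rintro ⟨x, hx, rfl⟩
    dsimp only
    rw [hi]
    obtain ⟨q, hq, hq1⟩ := perp_point hx
    obtain ⟨q0, hq0, hq01⟩ := perp_point zero_perp
    obtain ⟨g, hg⟩ : q ∈ MulAction.orbit (lgp FiTwenty.imZ FiTwenty.lamH) q0 := by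
      rw [FiTwenty.orbit_one q0 hq01]
      exact hq1
    have e : x = c.symm g * y0 * (c.symm g)⁻¹ := Subtype.ext (by
      show x.val = g.val * FiTwenty.imZ 0 * g.val⁻¹
      rw [← hq, ← hq0, ← FiBig.tr_smul]
      exact congrArg FiBig.tr hg.symm)
    rw [e, map_mul, map_mul, map_inv, hy0]
    exact FiPres.mem_transp.2 ⟨_, rfl⟩
  · intro hv
    obtain ⟨f, rfl⟩ := FiPres.mem_transp.1 hv
    obtain ⟨g, rfl⟩ := (FiTwenty.down_surjective.comp c.surjective) f
    refine ⟨g * y0 * g⁻¹, hconj g, ?_⟩
    dsimp only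
    rw [hi, map_mul, map_mul, map_inv, hy0]
    rfl

/-- The model is of type M(23). -/
theorem three_type : IsOfTypeM23 Cfsg.Spor.Fi23 FiTwenty.transp := by
  refine ⟨three_center, FiTwenty.imZ 10, IsConj.refl _, threeC, FiBig.tr_mem _, three_not_commute, ?_, 1, one_ne_zero, ?_⟩
  · change IsOfTypeM22 (↥(closure (perp FiTwenty.transp (FiTwenty.imZ 10))) ⧸
      center ↥(closure (perp FiTwenty.transp (FiTwenty.imZ 10))))
      ((QuotientGroup.mk : ↥(closure (perp FiTwenty.transp (FiTwenty.imZ 10))) → _) ''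
        {x | (x : Cfsg.Spor.Fi23) ∈ perp FiTwenty.transp (FiTwenty.imZ 10)})
    obtain ⟨i, hi⟩ := three_desc
    have h := type22_congr i.symm two_type
    rw [← hi, Set.image_image] at h
    simpa using h
  · show IsProjReflectionGroupModThree (↥(closure (perp FiTwenty.transp (FiTwenty.imZ 10) ∩
        perp FiTwenty.transp threeC)) ⧸ center ↥(closure (perp FiTwenty.transp (FiTwenty.imZ 10) ∩
        perp FiTwenty.transp threeC))) 7 (-1) 1
    have hp : ∀ y < 31671, pairAt threeTab FiTwenty.sigTabs 10 351 threeMask [9] y = true := fun y hy => by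
      have := three_scan y hy
      rw [threeAt, Bool.and_eq_true] at this
      exact this.1
    have h := three_points.proj three_table
      (three_points.pair FiBig.tr_mem nine_lt hp three_mask) (fun y hy => FiBig.tr_surj hy.1.1)
    rwa [show (2 : F3) ^ 7 = -1 by decide] at h

end Cfsg.Lib.FiTypes
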