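import Cfsg.Prelude.Def_FischerSpaces
import Cfsg.Agent.ThreeTransposition.Perp
import Cfsg.Agent.ThreeTransposition.RankThree
import Cfsg.Agent.S5361

/-!
Tools for the models of the types M(22), M(23) and M(24): a group generated by an invariant family of elements
modulo its centre is the group of permutations of the family, a subgroup of a non-split double cover containing a
noncentral normal set is everything, and transport of the types along isomorphisms.
-/

set_option autoImplicit false
set_option linter.unusedSectionVars false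
set_option linter.style.haveILetI false

namespace Cfsg.Lib.FiTypes

open Cfsg Subgroup Cfsg.Lib.ThreeTr

universe u v

section Table

variable {G : Type u} [Group G] {n m : ℕ}

theorem table_model (s : Fin n → G) (hs : Function.Injective s) (g : Fin m → Fin n) (π : Fin m → Fin n → Fin n)
    (hc : ∀ k j, s (g k) * s j * (s (g k))⁻¹ = s (π k j))
    (reach : ∀ P : Fin n → Prop, (∀ k, P (g k)) → (∀ k j, P j → P (π k j)) → ∀ j, P j)
    (σ : Fin m → Equiv.Perm (Fin n)) (hσ : ∀ k j, σ k j = π k j) :
    Nonempty (↥(closure (Set.range s)) ⧸ center ↥(closure (Set.range s)) ≃* ↥(closure (Set.range σ))) := by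
  classical
  set L := closure (Set.range s) with hL
  have hmem : ∀ j, s j ∈ L := fun j => subset_closure ⟨j, rfl⟩
  set K := closure (Set.range fun k => s (g k)) with hK
  have hKL : ∀ j, s j ∈ K := reach _ (fun k => subset_closure ⟨k, rfl⟩) fun k j hj => by
    have hk : s (g k) ∈ K := subset_closure ⟨k, rfl⟩
    exact hc k j ▸ mul_mem (mul_mem hk hj) (inv_mem hk)
  have hle : L ≤ K := (closure_le _).2 (by rintro _ ⟨j, rfl⟩; exact hKL j)
  have hex : ∀ x ∈ K, ∃ τ : Equiv.Perm (Fin n), ∀ j, x * s j * x⁻¹ = s (τ j) := fun x hx => by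
    induction hx using closure_induction with
    | mem x hx =>
      obtain ⟨k, rfl⟩ := hx
      exact ⟨σ k, fun j => (hc k j).trans (by rw [hσ])⟩
    | one => exact ⟨1, fun j => by simp⟩
    | mul a b _ _ ha hb =>
      obtain ⟨p, hp⟩ := ha
      obtain ⟨q, hq⟩ := hb
      refine ⟨p * q, fun j => ?_⟩
      rw [show a * b * s j * (a * b)⁻¹ = a * (b * s j * b⁻¹) * a⁻¹ by group, hq, hp]
      rfl
    | inv a _ ha =>
      obtain ⟨p, hp⟩ := ha
      refine ⟨p⁻¹, fun j => ?_⟩
      have h1 := hp (p⁻¹ j)
      rw [show p (p⁻¹ j) = j from p.apply_symm_apply j] at h1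
      rw [← h1]
      group
  choose τ hτ using fun x : L => hex x (hle x.2)
  have huniq : ∀ (x : L) (p : Equiv.Perm (Fin n)), (∀ j, (x : G) * s j * (x : G)⁻¹ = s (p j)) → τ x = p :=
    fun x p hp => Equiv.ext fun j => hs ((hτ x j).symm.trans (hp j))
  let φ : L →* Equiv.Perm (Fin n) :=
    { toFun := τ
      map_one' := huniq 1 1 fun j => by simp
      map_mul' := fun a b => huniq (a * b) (τ a * τ b) fun j => by
        show (a : G) * b * s j * ((a : G) * b)⁻¹ = s (τ a (τ b j))
        rw [← hτ, ← hτ]
        group }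
  have hker : φ.ker = center L := by
    ext x
    rw [MonoidHom.mem_ker, mem_center_iff]
    constructor
    · intro h
      have hx : ∀ j, (x : G) * s j = s j * (x : G) := fun j => by
        have := hτ x j
        rw [show τ x = 1 from h, Equiv.Perm.one_apply, mul_inv_eq_iff_eq_mul] at this
        exact this
      have hall : ∀ y ∈ L, (x : G) * y = y * (x : G) := fun y hy => by
        have hc' : closure (Set.range s) ≤ centralizer ({(x : G)} : Set G) := (closure_le _).2 (by
          rintro _ ⟨j, rfl⟩
          exact mem_centralizer_singleton_iff.2 (hx j).symm)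
        exact (mem_centralizer_singleton_iff.1 (hc' hy)).symm
      exact fun y => Subtype.ext (hall y y.2).symm
    · intro h
      refine huniq x 1 fun j => ?_
      have := congrArg Subtype.val (h ⟨s j, hmem j⟩)
      rw [Subgroup.coe_mul, Subgroup.coe_mul] at this
      rw [← this, mul_inv_cancel_right]
      rfl
  have hrange : φ.range = closure (Set.range σ) := by
    have htop : closure (Set.range fun k => (⟨s (g k), hmem (g k)⟩ : L)) = ⊤ := by
      refine map_injective L.subtype_injective ?_
      rw [MonoidHom.map_closure, ← MonoidHom.range_eq_map, L.range_subtype, ← Set.range_comp]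
      exact le_antisymm ((closure_le _).2 (by rintro _ ⟨k, rfl⟩; exact hmem (g k))) hle
    rw [MonoidHom.range_eq_map, ← htop, MonoidHom.map_closure, ← Set.range_comp]
    refine congrArg (fun S => Subgroup.closure (Set.range S)) (funext fun k => huniq _ _ fun j => ?_)
    rw [hσ]
    exact hc k j
  exact ⟨((QuotientGroup.quotientMulEquivOfEq hker.symm).trans (QuotientGroup.quotientKerEquivRange φ)).trans
    (MulEquiv.subgroupCongr hrange)⟩

/-- Two families with the same action of generators generate groups with isomorphic central quotients. -/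
theorem table_iso {H : Type v} [Group H] (s : Fin n → G) (r : Fin n → H) (hs : Function.Injective s)
    (hr : Function.Injective r) (g : Fin m → Fin n) (π : Fin m → Fin n → Fin n)
    (cs : ∀ k j, s (g k) * s j * (s (g k))⁻¹ = s (π k j)) (cr : ∀ k j, r (g k) * r j * (r (g k))⁻¹ = r (π k j))
    (reach : ∀ P : Fin n → Prop, (∀ k, P (g k)) → (∀ k j, P j → P (π k j)) → ∀ j, P j) :
    Nonempty (↥(closure (Set.range s)) ⧸ center ↥(closure (Set.range s)) ≃*
      ↥(closure (Set.range r)) ⧸ center ↥(closure (Set.range r))) := by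
  have hinj : ∀ k, Function.Injective (π k) := fun k a b e => hs (by
    have := congrArg s e
    rw [← cs, ← cs] at this
    exact mul_left_cancel (mul_right_cancel this))
  let σ : Fin m → Equiv.Perm (Fin n) := fun k => Equiv.ofBijective (π k) (Finite.injective_iff_bijective.1 (hinj k))
  obtain ⟨i⟩ := table_model s hs g π cs reach σ fun _ _ => rfl
  obtain ⟨j⟩ := table_model r hr g π cr reach σ fun _ _ => rfl
  exact ⟨i.trans j.symm⟩

end Table

variable {G : Type u} [Group G] {D : Set G}

theorem center_eq_bot_of_simple [IsSimpleGroup G] {a b : G} (h : ¬ Commute a b) : center G = ⊥ :=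
  (IsSimpleGroup.eq_bot_or_eq_top_of_normal _ inferInstance).resolve_right fun e =>
    h ((mem_center_iff.1 (e ▸ mem_top b) a))

theorem commutator_eq_top_of_simple [IsSimpleGroup G] {a b : G} (h : ¬ Commute a b) : commutator G = ⊤ :=
  (IsSimpleGroup.eq_bot_or_eq_top_of_normal _ inferInstance).resolve_left fun e => h (by
    refine commutatorElement_eq_one_iff_mul_comm.1 ?_
    have := commutator_mem_commutator (H₁ := (⊤ : Subgroup G)) (H₂ := ⊤) (mem_top a) (mem_top b)
    rwa [← _root_.commutator_def, e, mem_bot] at this)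

/-- A class with simple derived group in a group without centre is primitive. -/
theorem primitive_of_simple [Finite G] (hD : IsThreeTranspositionClass D) (hZ : center G = ⊥)
    (hw : ∃ a ∈ D, ∃ b ∈ D, a ≠ b ∧ Commute a b) (hs : IsSimpleGroup (commutator G)) : IsPrimitiveUnderConj D :=
  ((Cfsg.Agent.S5361.result hD hZ hw).1).1 hs

theorem conj_mem_perp' (hD : IsThreeTranspositionClass D) {d g x : G} (hg : g ∈ centralizer ({d} : Set G))
    (hx : x ∈ perp D d) : g * x * g⁻¹ ∈ perp D d := by
  have e : g * d * g⁻¹ = d := mul_inv_eq_iff_eq_mul.2 (mem_centralizer_singleton_iff.1 hg)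
  refine ⟨conj_mem hD g hx.1, fun h => hx.2.1 ?_, ?_⟩
  · rw [← e] at h
    exact mul_left_cancel (mul_right_cancel h)
  · have := hx.2.2.map (MulAut.conj g).toMonoidHom
    simpa [e] using this

/-- In a non-split double cover the commuting members generate the centraliser. -/
theorem closure_perp_eq_centralizer [Finite G] {K : Type v} [Group K] [IsSimpleGroup K] (hD : IsThreeTranspositionClass D)
    {d : G} (hd : d ∈ D) (hC : IsNonsplitDoubleCover (centralizer ({d} : Set G)) K) (hne : (perp D d).Nonempty) :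
    closure (perp D d) = centralizer ({d} : Set G) := by
  set C := centralizer ({d} : Set G)
  obtain ⟨hc2, ⟨i⟩, hns⟩ := hC
  have hle : closure (perp D d) ≤ C := (closure_le _).2 fun y hy => mem_centralizer_singleton_iff.2 hy.2.2.symm.eq
  set H := (closure (perp D d)).subgroupOf C with hH
  haveI hn : H.Normal := ⟨fun n hn g => by
    have key : closure (perp D d) ≤ (closure (perp D d)).comap (MulAut.conj (g : G)).toMonoidHom :=
      (closure_le _).2 fun y hy => subset_closure (conj_mem_perp' hD g.2 hy)
    exact key hn⟩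
  haveI : IsSimpleGroup (C ⧸ center C) := MulEquiv.isSimpleGroup i
  let z : C := ⟨d, mem_centralizer_singleton_iff.2 rfl⟩
  have hz : z ∈ center C := mem_center_iff.2 fun x => Subtype.ext (mem_centralizer_singleton_iff.1 x.2)
  have hz1 : z ≠ 1 := fun e => by
    have h2 := hD.1.1 d hd
    rw [show d = 1 from congrArg Subtype.val e, orderOf_one] at h2
    omega
  obtain ⟨y₀, hy⟩ := hne
  let y : C := ⟨y₀, hle (subset_closure hy)⟩
  have hyZ : y ∉ center C := fun hyc => by
    obtain ⟨a, b, -, huniv⟩ := Nat.card_eq_two_iff.1 hc2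
    have h1 : ∀ q : center C, q = a ∨ q = b := fun q => by
      simpa using (Set.ext_iff.1 huniv q).2 trivial
    have e : (⟨y, hyc⟩ : center C) = 1 ∨ (⟨y, hyc⟩ : center C) = ⟨z, hz⟩ := by
      have hne' : (⟨z, hz⟩ : center C) ≠ 1 := fun e => hz1 (congrArg Subtype.val e)
      rcases h1 1 with r | r <;> rcases h1 ⟨z, hz⟩ with s | s <;> rcases h1 ⟨y, hyc⟩ with t | t <;>
        first | exact absurd (s.trans r.symm) hne' | exact Or.inl (t.trans r.symm) | exact Or.inr (t.trans s.symm)
    rcases e with e | e
    · have h2 := hD.1.1 _ hy.1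
      rw [show y₀ = 1 from congrArg (fun q : center C => ((q : C) : G)) e, orderOf_one] at h2
      omega
    · exact hy.2.1 (congrArg (fun q : center C => ((q : C) : G)) e)
  have htop : H.map (QuotientGroup.mk' (center C)) = ⊤ := by
    refine ((hn.map _ (QuotientGroup.mk'_surjective _)).eq_bot_or_eq_top).resolve_left fun e => hyZ ?_
    have : QuotientGroup.mk' (center C) y ∈ H.map (QuotientGroup.mk' (center C)) :=
      ⟨y, subset_closure hy, rfl⟩
    rw [e, mem_bot] at this
    exact (QuotientGroup.eq_one_iff y).1 this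
  have hdisj : ∀ x ∈ center C, x ∈ H → x ≠ 1 → C ≤ closure (perp D d) := by
    intro x hx hxH hx1 g hg
    obtain ⟨h, hh, e⟩ := htop.ge (mem_top (QuotientGroup.mk' (center C) ⟨g, hg⟩))
    have hzc := QuotientGroup.eq.1 e
    have hZle : center C ≤ H := fun q hq => by
      obtain ⟨a, b, -, huniv⟩ := Nat.card_eq_two_iff.1 hc2
      have h1 : ∀ q : center C, q = a ∨ q = b := fun q => by
        simpa using (Set.ext_iff.1 huniv q).2 trivial
      have hne' : (⟨x, hx⟩ : center C) ≠ 1 := fun e => hx1 (congrArg Subtype.val e)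
      rcases h1 1 with r | r <;> rcases h1 ⟨x, hx⟩ with s | s <;> rcases h1 ⟨q, hq⟩ with t | t <;>
        first
        | exact absurd (s.trans r.symm) hne'
        | (rw [show q = 1 from congrArg Subtype.val (t.trans r.symm)]; exact one_mem H)
        | (rw [show q = x from congrArg Subtype.val (t.trans s.symm)]; exact hxH)
    have := mul_mem hh (hZle hzc)
    rw [mul_inv_cancel_left] at this
    exact this
  refine le_antisymm hle ?_
  by_contra hnot
  refine hns H ⟨?_, ?_⟩
  · rintro ⟨⟨a, ha⟩, ⟨b, hb⟩⟩ ⟨⟨c, hc⟩, ⟨e, he⟩⟩ h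
    have h' : a * b = c * e := h
    have hac : c⁻¹ * a = e * b⁻¹ := by
      rw [eq_mul_inv_iff_mul_eq, mul_assoc, h', inv_mul_cancel_left]
    have h1 : c⁻¹ * a = 1 := by
      by_contra hne
      exact hnot (hdisj _ (mul_mem (inv_mem hc) ha) (hac ▸ mul_mem he (inv_mem hb)) hne)
    obtain rfl : c = a := inv_mul_eq_one.1 h1
    obtain rfl : b = e := mul_left_cancel h'
    rfl
  · intro x
    obtain ⟨h, hh, e⟩ := htop.ge (mem_top (QuotientGroup.mk' (center C) x))
    have hzc := QuotientGroup.eq.1 e
    refine ⟨(⟨h⁻¹ * x, hzc⟩, ⟨h, hh⟩), ?_⟩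
    show h⁻¹ * x * h = x
    rw [← mem_center_iff.1 hzc h, mul_inv_cancel_left]

/-- A surjection with central kernel onto a group without centre gives the central quotient. -/
theorem center_quotient_map {A : Type u} [Group A] {B : Type v} [Group B] (f : A →* B) (hf : Function.Surjective f)
    (hker : f.ker ≤ center A) (hB : center B = ⊥) :
    ∃ i : A ⧸ center A ≃* B, ∀ a : A, i (QuotientGroup.mk a) = f a := by
  have e : center A = f.ker := le_antisymm (fun a ha => by
    rw [MonoidHom.mem_ker, ← mem_bot, ← hB, mem_center_iff]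
    intro b
    obtain ⟨a', rfl⟩ := hf b
    rw [← map_mul, ← map_mul, mem_center_iff.1 ha a']) hker
  exact ⟨(QuotientGroup.quotientMulEquivOfEq e).trans (QuotientGroup.quotientKerEquivOfSurjective f hf), fun a => rfl⟩

section Transport

variable {H : Type v} [Group H]

theorem image_perp (e : G ≃* H) (d : G) : perp (e '' D) (e d) = e '' perp D d := by
  ext x
  constructor
  · rintro ⟨⟨y, hy, rfl⟩, hne, hc⟩
    exact ⟨y, ⟨hy, fun h => hne (h ▸ rfl), by simpa using hc.map e.symm⟩, rfl⟩
  · rintro ⟨y, ⟨hy, hne, hc⟩, rfl⟩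
    exact ⟨⟨y, hy, rfl⟩, fun h => hne (e.injective h), hc.map e⟩

/-- The central quotients of the groups generated by corresponding sets correspond. -/
theorem quotient_equiv (e : G ≃* H) (S : Set G) :
    ∃ i : ↥(closure S) ⧸ center ↥(closure S) ≃* ↥(closure (e '' S)) ⧸ center ↥(closure (e '' S)),
      i '' ((QuotientGroup.mk : ↥(closure S) → _) '' {x | (x : G) ∈ S}) =
        (QuotientGroup.mk : ↥(closure (e '' S)) → _) '' {x | (x : H) ∈ e '' S} := by
  have hmap : (closure S).map e.toMonoidHom = closure (e '' S) := MonoidHom.map_closure _ _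
  let j : ↥(closure S) ≃* ↥(closure (e '' S)) := (e.subgroupMap (closure S)).trans (MulEquiv.subgroupCongr hmap)
  have hj : ∀ x, (j x : H) = e (x : G) := fun x => rfl
  have hc : (center ↥(closure S)).map j.toMonoidHom = center ↥(closure (e '' S)) := by
    ext y
    rw [mem_map_equiv, mem_center_iff, mem_center_iff]
    exact ⟨fun h z => j.symm.injective (by rw [map_mul, map_mul]; exact h _),
      fun h z => j.injective (by rw [map_mul, map_mul, j.apply_symm_apply]; exact h _)⟩
  refine ⟨QuotientGroup.congr _ _ j hc, ?_⟩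
  rw [Set.image_image]
  ext q
  constructor
  · rintro ⟨x, hx, rfl⟩
    exact ⟨j x, ⟨x, hx, (hj x).symm⟩, rfl⟩
  · rintro ⟨y, ⟨x, hx, hxy⟩, rfl⟩
    refine ⟨⟨x, subset_closure hx⟩, hx, ?_⟩
    exact congrArg QuotientGroup.mk (Subtype.ext (by rw [hj]; exact hxy) : j ⟨x, subset_closure hx⟩ = y)

theorem projRefl_congr {A : Type u} [Group A] {B : Type v} [Group B] (i : A ≃* B) {n : ℕ} {μ c : ZMod 3}
    (h : IsProjReflectionGroupModThree A n μ c) : IsProjReflectionGroupModThree B n μ c := by
  obtain ⟨Q, hQ, hd, ⟨j⟩⟩ := h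
  exact ⟨Q, hQ, hd, ⟨i.symm.trans j⟩⟩

theorem center_bot_congr (e : G ≃* H) (h : center G = ⊥) : center H = ⊥ :=
  (eq_bot_iff_forall _).2 fun x hx => e.symm.injective (by
    rw [map_one, ← mem_bot, ← h, mem_center_iff]
    intro y
    apply e.injective
    rw [map_mul, map_mul, e.apply_symm_apply]
    exact mem_center_iff.1 hx (e y))

theorem type22_congr (e : G ≃* H) (h : IsOfTypeM22 G D) : IsOfTypeM22 H (e '' D) := by
  obtain ⟨hZ, d, hd, c, hc, hdc, ⟨F, _, _, hF, ⟨j⟩⟩, c₃, hc₃, hL⟩ := h
  refine ⟨center_bot_congr e hZ, e d, ⟨d, hd, rfl⟩, e c, ⟨c, hc, rfl⟩, fun k => hdc (by simpa using k.map e.symm),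
    ⟨F, inferInstance, inferInstance, hF, ?_⟩, c₃, hc₃, ?_⟩
  · show Nonempty (↥(closure (perp (e '' D) (e d))) ⧸ center ↥(closure (perp (e '' D) (e d))) ≃* PSU 6 F 2)
    rw [image_perp]
    obtain ⟨i, -⟩ := quotient_equiv e (perp D d)
    exact ⟨i.symm.trans j⟩
  · show IsProjReflectionGroupModThree (↥(closure (perp (e '' D) (e d) ∩ perp (e '' D) (e c))) ⧸
      center ↥(closure (perp (e '' D) (e d) ∩ perp (e '' D) (e c)))) 6 1 c₃
    rw [image_perp, image_perp, ← Set.image_inter e.injective]
    obtain ⟨i, -⟩ := quotient_equiv e (perp D d ∩ perp D c)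
    exact projRefl_congr i hL

theorem type23_congr (e : G ≃* H) (h : IsOfTypeM23 G D) : IsOfTypeM23 H (e '' D) := by
  obtain ⟨hZ, d, hd, c, hc, hdc, h22, c₃, hc₃, hL⟩ := h
  refine ⟨center_bot_congr e hZ, e d, ⟨d, hd, rfl⟩, e c, ⟨c, hc, rfl⟩, fun k => hdc (by simpa using k.map e.symm),
    ?_, c₃, hc₃, ?_⟩
  · change IsOfTypeM22 (↥(closure (perp (e '' D) (e d))) ⧸ center ↥(closure (perp (e '' D) (e d))))
      ((QuotientGroup.mk : ↥(closure (perp (e '' D) (e d))) → _) '' {x | (x : H) ∈ perp (e '' D) (e d)})
    rw [image_perp]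
    obtain ⟨i, hi⟩ := quotient_equiv e (perp D d)
    rw [← hi]
    exact type22_congr i h22
  · show IsProjReflectionGroupModThree (↥(closure (perp (e '' D) (e d) ∩ perp (e '' D) (e c))) ⧸
      center ↥(closure (perp (e '' D) (e d) ∩ perp (e '' D) (e c)))) 7 (-c₃) c₃
    rw [image_perp, image_perp, ← Set.image_inter e.injective]
    obtain ⟨i, -⟩ := quotient_equiv e (perp D d ∩ perp D c)
    exact projRefl_congr i hL

end Transport

end Cfsg.Lib.FiTypes
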