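import Cfsg.Agent.FiTypes.Three
import Cfsg.Agent.FiFour.Unique
import Cfsg.Agent.FiTriality.Transfer

/-!
The model on 306936 points is of type M(24): the members commuting with two non-commuting ones generate the
extension of the simple orthogonal group of plus type by the symmetric group of three colours.
-/

set_option autoImplicit false
set_option linter.unusedSectionVars false
set_option linter.style.haveILetI false
set_option maxRecDepth 100000
set_option Elab.async false

namespace Cfsg.Lib.FiTypes

open Cfsg Subgroup Cfsg.Lib.CosetCert Cfsg.Lib.ThreeTr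

/-- The word of the lift of the tenth letter. -/
def tenLift : List ℕ := FiTwenty.conjWord ++ 1 :: FiTwenty.conjWord.reverse

/-- The word of the lift of the eleventh member. -/
def uLift : List ℕ := FiTriality.uConj ++ (tenLift ++ FiTriality.uConj.reverse)

theorem lift_walk : (FiFour.walkW tenLift 31672 31672 && FiFour.walkW uLift 31672 31672) = true := by
  decide +kernel

theorem lift_letters : ((FiTwenty.conjWord ++ FiTriality.uConj ++ tenLift ++ uLift).all fun l => decide (l < 10)) = true := by
  decide +kernel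

attribute [local irreducible] FiFour.rowF FiFour.sevF FiFour.lonF FiFour.blkMask
attribute [local irreducible] FiTwenty.sig0 FiTwenty.sig1 FiTwenty.sig2 FiTwenty.sig3 FiTwenty.sig4 FiTwenty.sig5
  FiTwenty.sig6 FiTwenty.sig7 FiTwenty.sig8 FiTwenty.sig9 FiTwenty.sig10 FiTriality.uConj FiTwenty.conjWord

/-- The second member. -/
noncomputable def fourC : Cfsg.Spor.Fi24 := FiFour.im 11 * FiFour.im 10 * (FiFour.im 11)⁻¹

theorem fourC_tied : FiFour.Tied fourC FiFour.pA := ⟨FiFour.im 11, FiFour.special_point, rfl⟩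

theorem four_not_commute : ¬ Commute (FiFour.im 10) fourC := fun h =>
  FiFour.ten_move (p := FiFour.pA) le_rfl (fourC_tied.commute_iff.1 h)

/-- The common neighbours of the two members. -/
noncomputable def fourS : Set Cfsg.Spor.Fi24 :=
  perp FiFour.transp (FiFour.im 10) ∩ perp FiFour.transp fourC

theorem mem_fourS {t : Cfsg.Spor.Fi24} (ht : t ∈ perp FiFour.transp (FiFour.im 10))
    (hfix : t • FiFour.pA = FiFour.pA) : t ∈ fourS :=
  ⟨ht, ht.1, fun e => four_not_commute (e ▸ ht.2.2), (fourC_tied.commute hfix).symm⟩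

theorem perp_conj {t : Cfsg.Spor.Fi24} (ht : t ∈ perp FiFour.transp (FiFour.im 10)) {w : List ℕ}
    (hw : ∀ l ∈ w, l < 10) :
    wval FiFour.im w * t * (wval FiFour.im w)⁻¹ ∈ perp FiFour.transp (FiFour.im 10) := by
  refine conj_mem_perp' FiFour.transp_class ?_ ht
  rw [FiFour.centralizer_z]
  exact lgp_wval FiFour.im (by
    simp only [inLetters, List.all_eq_true, List.contains_iff_mem]
    exact fun l hl => (show ∀ x < 10, x ∈ FiFour.lamT by decide) l (hw l hl))

theorem low_words : (∀ l ∈ FiTwenty.conjWord, l < 10) ∧ (∀ l ∈ FiTriality.uConj, l < 10) ∧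
    (∀ l ∈ tenLift, l < 10) ∧ ∀ l ∈ uLift, l < 10 := by
  have h := lift_letters
  simp only [List.all_append, Bool.and_eq_true, List.all_eq_true, decide_eq_true_eq] at h
  exact ⟨h.1.1.1, h.1.1.2, h.1.2, h.2⟩

theorem wval_sandwich (u v : List ℕ) : wval FiFour.im (u ++ (v ++ u.reverse)) =
    wval FiFour.im u * wval FiFour.im v * (wval FiFour.im u)⁻¹ := by
  rw [FiFour.wval_append, FiFour.wval_append, wval_reverse FiFour.im fun l _ => FiFour.im_sq l, mul_assoc]

theorem tenLift_eq : tenLift = FiTwenty.conjWord ++ ([1] ++ FiTwenty.conjWord.reverse) := rfl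

theorem lift_mem : wval FiFour.im tenLift ∈ fourS ∧ wval FiFour.im uLift ∈ fourS := by
  obtain ⟨h1, h2, h3, h4⟩ := low_words
  have hw := lift_walk
  rw [Bool.and_eq_true] at hw
  have hfix : ∀ {w : List ℕ}, (∀ l ∈ w, l < 10) → FiFour.walkW w 31672 31672 = true →
      wval FiFour.im w • FiFour.pA = FiFour.pA := fun {w} hl h => by
    rw [eq_comm, ← inv_smul_eq_iff]
    refine Fin.ext ?_
    rw [FiFour.inv_smul_moves (fun l hl' => Nat.lt_of_lt_of_le (hl l hl') (by norm_num))]
    exact FiFour.walkW_eq h
  have hone : wval FiFour.im [1] ∈ perp FiFour.transp (FiFour.im 10) := by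
    rw [FiFour.wval_single]
    exact FiFour.letter_perp (by norm_num)
  have hten : wval FiFour.im tenLift ∈ perp FiFour.transp (FiFour.im 10) := by
    rw [tenLift_eq, wval_sandwich]
    exact perp_conj hone h1
  have hu : wval FiFour.im uLift ∈ perp FiFour.transp (FiFour.im 10) := by
    rw [uLift, wval_sandwich]
    exact perp_conj hten h2
  exact ⟨mem_fourS hten (hfix h3 hw.1), mem_fourS hu (hfix h4 hw.2)⟩

theorem lift_down : FiFour.Agrees (wval FiFour.im tenLift) (FiTriality.imE 10) ∧
    FiFour.Agrees (wval FiFour.im uLift) (FiTriality.imE 11) := by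
  obtain ⟨h1, h2, -, -⟩ := low_words
  have hrev : wval FiTwenty.imZ FiTwenty.conjWord.reverse = (wval FiTwenty.imZ FiTwenty.conjWord)⁻¹ :=
    wval_reverse FiTwenty.imZ fun l hl => FiTwenty.imZ_sq (h1 l hl)
  have hten : FiFour.Agrees (wval FiFour.im tenLift) (FiTriality.imE 10) := by
    have hb : FiTwenty.imZ 1 = _ := FiFour.tz_base
    rw [FiFour.tz, hrev, inv_inv] at hb
    rw [FiTriality.imE_low (by norm_num), tenLift_eq, wval_sandwich, FiFour.wval_single]
    have := ((FiFour.agrees_wval h1).mul (FiFour.agrees_low (show 1 < 10 by norm_num))).mul (FiFour.agrees_wval h1).inv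
    rw [hb] at this
    simpa [mul_assoc] using this
  refine ⟨hten, ?_⟩
  rw [FiTriality.imE_u, uLift, wval_sandwich]
  have := ((FiFour.agrees_wval h2).mul hten).mul (FiFour.agrees_wval h2).inv
  rwa [FiTriality.imE_low (show (10 : ℕ) ≠ 11 by norm_num)] at this

/-- The group on the common neighbours. -/
noncomputable abbrev fourL : Subgroup Cfsg.Spor.Fi24 := closure fourS

theorem fourL_le : fourL ≤ lgp FiFour.im FiFour.lamT :=
  (Subgroup.closure_mono fun _ h => h.1).trans FiFour.closure_perp_le

theorem fourL_fix {g : Cfsg.Spor.Fi24} (hg : g ∈ fourL) : g • FiFour.pA = FiFour.pA := by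
  have h : fourL ≤ MulAction.stabilizer Cfsg.Spor.Fi24 FiFour.pA :=
    (closure_le _).2 fun t ht => MulAction.mem_stabilizer_iff.2 (fourC_tied.commute_iff.1 ht.2.2.2.symm)
  exact h hg

/-- The map to the smaller group. -/
noncomputable def fourMap : ↥fourL →* Cfsg.Spor.Fi23 := FiFour.down.comp (Subgroup.inclusion fourL_le)

theorem fourMap_injective : Function.Injective fourMap := by
  refine (injective_iff_map_eq_one _).2 fun g hg => ?_
  rcases FiFour.eleven_facts.2.2 _ hg with e | e
  · exact Subtype.ext (congrArg (fun y : lgp FiFour.im FiFour.lamT => y.1) e)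
  · exfalso
    have h := fourL_fix g.2
    rw [show g.1 = FiFour.im 10 from congrArg (fun y : lgp FiFour.im FiFour.lamT => y.1) e] at h
    exact FiFour.ten_move (p := FiFour.pA) le_rfl h

theorem fourMap_range : fourMap.range = FiTriality.LG := by
  have hle : FiTriality.LG ≤ fourMap.range := by
    refine (closure_le _).2 ?_
    rintro _ ⟨k, hk, rfl⟩
    have hk11 : 1 ≤ k ∧ k ≤ 11 := (show ∀ l ∈ FiTriality.lamL, 1 ≤ l ∧ l ≤ 11 by decide) k hk
    have mk : ∀ (t : Cfsg.Spor.Fi24) (f : Cfsg.Spor.Fi23), t ∈ fourS → FiFour.Agrees t f → f ∈ fourMap.range :=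
      fun t f ht ha => ⟨⟨t, subset_closure ht⟩, FiFour.down_eq ha⟩
    rcases (show k ≤ 9 ∨ k = 10 ∨ k = 11 by omega) with h | rfl | rfl
    · have hfix : FiFour.im k • FiFour.pA = FiFour.pA := Fin.ext (by
        rw [FiFour.im_smul_val (by omega)]
        exact FiFour.fix_pA ⟨k, by omega⟩ hk11.1)
      refine mk _ _ (mem_fourS (FiFour.letter_perp (by omega)) hfix) ?_
      rw [FiTriality.imE_low (by omega)]
      exact FiFour.agrees_low (by omega)
    · exact mk _ _ lift_mem.1 lift_down.1
    · exact mk _ _ lift_mem.2 lift_down.2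
  let S : Subgroup (lgp FiFour.im FiFour.lamT) := MulAction.stabilizer (lgp FiFour.im FiFour.lamT) FiFour.pA
  let f : ↥fourL → S := fun g => ⟨⟨g.1, fourL_le g.2⟩, fourL_fix g.2⟩
  have hf : Function.Injective f := fun a b e => Subtype.ext (congrArg (fun y : S => y.1.1) e)
  have h1 := Subgroup.card_mul_index S
  rw [MulAction.index_stabilizer, FiFour.eleven_facts.2.1] at h1
  have h2 := Nat.mul_le_mul_left (Nat.card S) FiFour.orbit_large
  have h3 := Nat.card_le_card_of_injective f hf
  obtain ⟨q⟩ := FiTriality.quotient_iso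
  have h4 : Nat.card ↥FiTriality.LG = 29713078886400 := by
    haveI : (FiTriality.PG : Subgroup FiTriality.LG).Normal := MonoidHom.normal_ker _
    rw [Subgroup.card_eq_card_quotient_mul_card_subgroup FiTriality.PG, Nat.card_congr q.toEquiv,
      FiTriality.card_PG, Nat.card_perm, Nat.card_fin]
    rfl
  haveI : Finite ↥fourL := Finite.of_injective f hf
  haveI : Finite fourMap.range := Finite.of_surjective _ fourMap.rangeRestrict_surjective
  have h5 : Nat.card fourMap.range = Nat.card ↥fourL := Nat.card_congr (MonoidHom.ofInjective fourMap_injective).toEquiv.symm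
  refine (eq_of_le_of_card_ge hle ?_).symm
  rw [h5, h4]
  omega

/-- The common neighbours give the extension by the three colours. -/
theorem four_colours : ∃ (N : Subgroup (↥fourL ⧸ center ↥fourL)) (_ : N.Normal),
    Nonempty (N ≃* POmega (ZMod 3) (quadFormPlus 4 (ZMod 3))) ∧
      Nonempty ((↥fourL ⧸ center ↥fourL) ⧸ N ≃* Equiv.Perm (Fin 3)) := by
  let e : ↥fourL ≃* ↥FiTriality.LG :=
    (MonoidHom.ofInjective fourMap_injective).trans (MulEquiv.subgroupCongr fourMap_range)
  have hZ : center ↥FiTriality.LG = ⊥ := (eq_bot_iff_forall _).2 fun g hg =>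
    FiTriality.eq_one_of_comm fun p _ => (mem_center_iff.1 hg p).symm
  obtain ⟨i, -⟩ := center_quotient_map e.toMonoidHom e.surjective (fun x hx => by
    rw [show x = 1 from e.injective (hx.trans (map_one e).symm)]
    exact one_mem _) hZ
  haveI : (FiTriality.PG : Subgroup FiTriality.LG).Normal := MonoidHom.normal_ker _
  obtain ⟨q⟩ := FiTriality.quotient_iso
  refine ⟨(FiTriality.PG : Subgroup FiTriality.LG).map i.symm.toMonoidHom,
    Subgroup.Normal.map inferInstance _ i.symm.surjective, ⟨(i.symm.subgroupMap _).symm.trans FiTriality.orthEquiv⟩, ?_⟩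
  have hN := Subgroup.Normal.map (inferInstance : (FiTriality.PG : Subgroup FiTriality.LG).Normal) i.symm.toMonoidHom
    i.symm.surjective
  exact ⟨(@QuotientGroup.congr _ _ _ _ (FiTriality.PG : Subgroup FiTriality.LG)
    ((FiTriality.PG : Subgroup FiTriality.LG).map i.symm.toMonoidHom) _ hN i.symm rfl).symm.trans q⟩

theorem four_desc : IsOfTypeM23 (↥(closure (perp FiFour.transp (FiFour.im 10))) ⧸
    center ↥(closure (perp FiFour.transp (FiFour.im 10)))) (descSet FiFour.transp (FiFour.im 10)) := by
  have h := type23_congr FiFour.descIso.symm three_type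
  have e : FiTwenty.transp = conjugatesOf (FiTwenty.imZ 0) := by
    rw [FiTriality.transp_eq, FiTwenty.imZ_low (show 0 < 10 by norm_num)]
  rw [e, ← FiFour.descIso_image, Set.image_image] at h
  simpa using h

/-- The model is of type M(24). -/
theorem four_type : IsOfTypeM24 Cfsg.Spor.Fi24 FiFour.transp :=
  ⟨FiFour.center_eq, FiFour.im 10, IsConj.refl _, fourC, fourC_tied.mem, four_not_commute, four_desc, four_colours⟩

theorem four_m24 : Cfsg.Lib.ThreeTr.M24 FiFour.transp :=
  Cfsg.Lib.ThreeTr.M24.mk' FiFour.transp_group FiFour.transp_prim four_type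

end Cfsg.Lib.FiTypes
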