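import Cfsg.Agent.FiTypes.Basics
import Cfsg.Agent.Classical.Misc.Spinor

/-!
Sums of squares over three elements: a family of elements permuted as the points of norm one are permuted by their
reflections generates the projective reflection group.
-/

set_option autoImplicit false
set_option linter.unusedSectionVars false

namespace Cfsg.Lib.FiTypes

open Cfsg Subgroup Cfsg.Lib.Classical Matrix

universe u

variable {d : ℕ}

abbrev F3 := ZMod 3

/-- The sum of squares. -/
noncomputable def QS (d : ℕ) : QuadraticForm F3 (Fin d → F3) :=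
  QuadraticMap.weightedSumSquares F3 (fun _ : Fin d => (1 : F3))

theorem qs_apply (x : Fin d → F3) : QS d x = ∑ i, x i * x i := by
  simp [QS, QuadraticMap.weightedSumSquares_apply]

theorem qs_polar (x y : Fin d → F3) : QuadraticMap.polar (⇑(QS d)) x y = 2 * ∑ i, x i * y i := by
  simp only [QuadraticMap.polar, qs_apply, Finset.mul_sum, ← Finset.sum_sub_distrib, Pi.add_apply]
  exact Finset.sum_congr rfl fun i _ => by ring

theorem qs_nondeg : (QuadraticMap.polarBilin (QS d)).Nondegenerate := by
  have key : ∀ x : Fin d → F3, (∀ y, QuadraticMap.polar (⇑(QS d)) x y = 0) → x = 0 := fun x hx => by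
    have h2 : ∀ t : F3, 2 * t = 0 → t = 0 := by decide
    funext i
    exact h2 _ (by simpa [qs_polar, Pi.single_apply] using hx (Pi.single i 1))
  exact ⟨key, fun y hy => key y fun x => by rw [QuadraticMap.polar_comm]; exact hy x⟩

theorem qs_det : polarGramDet (⇑(QS d)) = 2 ^ d := by
  have e : (Matrix.of fun i j : Fin d => QuadraticMap.polar (⇑(QS d)) (Pi.single i 1) (Pi.single j 1)) =
      Matrix.diagonal fun _ => (2 : F3) := by
    ext i j
    rw [Matrix.of_apply, qs_polar]
    rcases eq_or_ne i j with rfl | h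
    · simp [Pi.single_apply]
    · rw [Matrix.diagonal_apply_ne _ h]
      simp [Pi.single_apply, h.symm]
  rw [polarGramDet, e, Matrix.det_diagonal, Finset.prod_const, Finset.card_univ, Fintype.card_fin]

/-- The image of a vector under the reflection in a vector of norm one. -/
def reflVec (v y : Fin d → F3) : Fin d → F3 := fun i => y i - 2 * (∑ k, v k * y k) * v i

theorem reflVec_eq {v : Fin d → F3} (hv : QS d v = 1) (y : Fin d → F3) :
    reflectionMatrix (⇑(QS d)) v *ᵥ y = reflVec v y := by
  rw [Refl.mulVec_eq, hv, inv_one, one_mul, qs_polar]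
  rfl

/-- The table of a family of vectors of norm one gives the projective reflection group. -/
theorem proj_of_table {G : Type u} [Group G] {n m : ℕ} (s : Fin n → G) (hs : Function.Injective s)
    (vec : Fin n → Fin d → F3) (hone : ∀ j, ∑ i, vec j i * vec j i = 1)
    (hinj : ∀ i j, vec i = vec j ∨ vec i = -vec j → i = j)
    (hall : ∀ x : Fin d → F3, ∑ i, x i * x i = 1 → ∃ j, x = vec j ∨ x = -vec j)
    (g : Fin m → Fin n) (π : Fin m → Fin n → Fin n) (cs : ∀ k j, s (g k) * s j * (s (g k))⁻¹ = s (π k j))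
    (cv : ∀ k j, reflVec (vec (g k)) (vec j) = vec (π k j) ∨ reflVec (vec (g k)) (vec j) = -vec (π k j))
    (reach : ∀ P : Fin n → Prop, (∀ k, P (g k)) → (∀ k j, P j → P (π k j)) → ∀ j, P j) :
    IsProjReflectionGroupModThree (↥(closure (Set.range s)) ⧸ center ↥(closure (Set.range s))) d (2 ^ d) 1 := by
  have hv : ∀ j, QS d (vec j) = 1 := fun j => (qs_apply _).trans (hone j)
  have hne : ∀ j, QS d (vec j) ≠ 0 := fun j => by rw [hv]; exact one_ne_zero
  set r : Fin n → isometryGroup F3 (⇑(QS d)) := fun j => Refl.refl (QS d) (vec j) (hne j) with hr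
  have hrinj : Function.Injective r := fun i j e => by
    have h := congrArg (fun g => Refl.mat (QS d) g *ᵥ vec i) e
    change reflectionMatrix (⇑(QS d)) (vec i) *ᵥ vec i = reflectionMatrix (⇑(QS d)) (vec j) *ᵥ vec i at h
    rw [Refl.self _ _ (hne i), Refl.mulVec_eq, hv, inv_one, one_mul] at h
    set t := QuadraticMap.polar (⇑(QS d)) (vec j) (vec i)
    have h2 : vec i = (2 * t) • vec j := funext fun k =>
      (by decide : ∀ a b c : F3, -a = a - b * c → a = 2 * b * c) _ _ _ (congrFun h k)
    have h3 := congrArg (QS d) h2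
    rw [QuadraticMap.map_smul, hv, hv, smul_eq_mul, mul_one] at h3
    refine hinj i j ?_
    rcases (by decide : ∀ a : F3, 1 = a * a → a = 1 ∨ a = -1) _ h3 with e' | e' <;> rw [e'] at h2
    · exact Or.inl (by rw [h2, one_smul])
    · exact Or.inr (by rw [h2, neg_one_smul])
  have hrange : Subgroup.closure (Set.range r) = reflectionSubgroup (⇑(QS d)) 1 := by
    refine congrArg Subgroup.closure (Set.Subset.antisymm ?_ ?_)
    · rintro _ ⟨j, rfl⟩
      exact ⟨vec j, hv j, rfl⟩
    · rintro x ⟨v, hv1, hx⟩
      obtain ⟨j, hj⟩ := hall v ((qs_apply v).symm.trans hv1)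
      obtain ⟨t, ht⟩ : ∃ t : F3, v = t • vec j := by
        rcases hj with e | e
        · exact ⟨1, by rw [e, one_smul]⟩
        · exact ⟨-1, by rw [e, neg_one_smul]⟩
      refine ⟨j, ((Refl.refl_congr (QS d) (hne j) (by rw [hv1]; exact one_ne_zero) ht).symm.trans ?_)⟩
      exact Subtype.ext (Units.ext hx.symm)
  have cr : ∀ k j, r (g k) * r j * (r (g k))⁻¹ = r (π k j) := fun k j => by
    have e := reflVec_eq (hv (g k)) (vec j)
    obtain ⟨t, ht⟩ : ∃ t : F3, reflVec (vec (g k)) (vec j) = t • vec (π k j) := by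
      rcases cv k j with h | h
      · exact ⟨1, by rw [h, one_smul]⟩
      · exact ⟨-1, by rw [h, neg_one_smul]⟩
    simp only [hr]
    rw [Refl.refl_conj]
    exact Refl.refl_congr (QS d) (hne _) _ (e.trans ht)
  obtain ⟨i⟩ := table_iso s r hs hrinj g π cs cr reach
  refine ⟨QS d, qs_nondeg, qs_det, ?_⟩
  rw [hrange] at i
  exact ⟨i⟩

end Cfsg.Lib.FiTypes
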