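import Cfsg.Agent.FiTypes.Squares
import Cfsg.Agent.CosetCert.Kit

/-!
A packed table matching members of a class with the points of norm one, and the tests that make it a proof.
-/

set_option autoImplicit false
set_option linter.unusedSectionVars false

namespace Cfsg.Lib.FiTypes

open Cfsg Subgroup Cfsg.Lib.CosetCert Cfsg.Lib.PermCert

universe u

/-- The data. -/
structure Table where
  pts : ℕ
  vcode : ℕ
  vinv : ℕ
  pi : List ℕ
  seeds : List ℕ
  words : List (List ℕ)
  tree : List (ℕ × ℕ × ℕ)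

/-- A vector from a code. -/
def vecN (d c : ℕ) : Fin d → F3 := fun i => ((c / 3 ^ i.val % 3 : ℕ) : F3)

/-- The code of a vector. -/
def codeV {d : ℕ} (x : Fin d → F3) : ℕ := (finFunctionFinEquiv (x : Fin d → Fin 3)).val

theorem vecN_code {d : ℕ} (x : Fin d → F3) : codeV x < 3 ^ d ∧ vecN d (codeV x) = x := by
  refine ⟨(finFunctionFinEquiv (x : Fin d → Fin 3)).isLt, funext fun i => ?_⟩
  have h := congrArg Fin.val (congrFun (finFunctionFinEquiv.symm_apply_apply (x : Fin d → Fin 3)) i)
  rw [finFunctionFinEquiv_symm_apply_val] at h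
  rw [vecN, codeV, h]
  exact ZMod.natCast_zmod_val (x i)

/-- The points are increasing. -/
def ptsOK (T : Table) (N n : ℕ) : Bool :=
  (List.range n).all fun j => decide (ap T.pts j < N) && (decide (n ≤ j + 1) || decide (ap T.pts j < ap T.pts (j + 1)))

/-- The vectors have norm one and are told apart. -/
def vecOK (T : Table) (d n : ℕ) : Bool :=
  (List.range n).all fun j => decide (∑ i, vecN d (ap T.vcode j) i * vecN d (ap T.vcode j) i = 1) &&
    (ap T.vinv (codeV (vecN d (ap T.vcode j))) == j) && (ap T.vinv (codeV (-vecN d (ap T.vcode j))) == j)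

/-- All points of norm one are listed. -/
def allOK (T : Table) (d n : ℕ) : Bool :=
  (List.range (3 ^ d)).all fun c => decide (∑ i, vecN d c i * vecN d c i ≠ 1) ||
    (decide (ap T.vinv c < n) && decide (vecN d c = vecN d (ap T.vcode (ap T.vinv c)) ∨
      vecN d c = -vecN d (ap T.vcode (ap T.vinv c))))

/-- The generators permute members and points in the same way. -/
def moveOK (T : Table) (tabs : List PP) (z d n m : ℕ) : Bool :=
  (List.range m).all fun k =>
    decide (T.seeds.getD k 0 < n) && ((T.words.getD k []).all fun l => decide (l < tabs.length)) &&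
    (evalW tabs (T.words.getD k []) 0 == ap T.pts (T.seeds.getD k 0)) &&
    (List.range n).all fun j => decide (ap (T.pi.getD k 0) j < n) &&
      (evalW tabs ((T.words.getD k []).reverse ++ z :: T.words.getD k []) (ap T.pts j) ==
        ap T.pts (ap (T.pi.getD k 0) j)) &&
      decide (reflVec (vecN d (ap T.vcode (T.seeds.getD k 0))) (vecN d (ap T.vcode j)) =
          vecN d (ap T.vcode (ap (T.pi.getD k 0) j)) ∨
        reflVec (vecN d (ap T.vcode (T.seeds.getD k 0))) (vecN d (ap T.vcode j)) =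
          -vecN d (ap T.vcode (ap (T.pi.getD k 0) j)))

/-- The tree reaches everything. -/
def treeGo (T : Table) (n m : ℕ) : List (ℕ × ℕ × ℕ) → ℕ → Bool
  | [], s => (List.range n).all fun j => s.testBit j
  | (j, k, i) :: r, s => decide (k < m) && s.testBit i && (ap (T.pi.getD k 0) i == j) && treeGo T n m r (s ||| 1 <<< j)

/-- The tree from the generators. -/
def reachOK (T : Table) (n m : ℕ) : Bool :=
  treeGo T n m T.tree ((List.range m).foldl (fun s k => s ||| 1 <<< T.seeds.getD k 0) 0)

/-- All tests. -/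
def tableOK (T : Table) (tabs : List PP) (z N d n m : ℕ) : Bool :=
  ptsOK T N n && vecOK T d n && allOK T d n && moveOK T tabs z d n m && reachOK T n m

variable {G : Type u} [Group G] {N : ℕ} [MulAction G (Fin N)]

/-- What is known about the points of a class. -/
structure Points (f : ℕ → G) (tabs : List PP) (z : ℕ) (p : Fin N) (tr : Fin N → G) : Prop where
  zero : p.val = 0
  lt : z < tabs.length
  base : tr p = f z
  sq : ∀ l < tabs.length, f l * f l = 1
  inj : Function.Injective tr
  smul : ∀ (g : G) (x : Fin N), tr (g • x) = g * tr x * g⁻¹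
  act : ∀ w : List ℕ, (∀ l ∈ w, l < tabs.length) → ∀ x : Fin N, (((wval f w)⁻¹ • x : Fin N)).val = evalW tabs w x.val

variable {f : ℕ → G} {tabs : List PP} {z : ℕ} {p : Fin N} {tr : Fin N → G}

theorem Points.conj_word (P : Points f tabs z p tr) {w : List ℕ} (hw : ∀ l ∈ w, l < tabs.length) :
    tr ((wval f w)⁻¹ • p) = wval f (w.reverse ++ z :: w) ∧
      ∀ x, ((tr ((wval f w)⁻¹ • p) • x : Fin N)).val = evalW tabs (w.reverse ++ z :: w) x.val := by
  have e : tr ((wval f w)⁻¹ • p) = wval f (w.reverse ++ z :: w) := by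
    rw [P.smul, P.base, show wval f (w.reverse ++ z :: w) = wval f w.reverse * (f z * wval f w) by simp [wval],
      wval_reverse f fun l hl => P.sq l (hw l hl), inv_inv]
    group
  refine ⟨e, fun x => ?_⟩
  have hsq : (tr ((wval f w)⁻¹ • p))⁻¹ = tr ((wval f w)⁻¹ • p) := by
    rw [P.smul, P.base, mul_inv_rev, mul_inv_rev, inv_inv, inv_eq_of_mul_eq_one_left (P.sq z P.lt), mul_assoc]
  rw [← hsq, e]
  refine P.act _ (fun l hl => ?_) x
  rcases List.mem_append.1 hl with h | h
  · exact hw l (List.mem_reverse.1 h)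
  · rcases List.mem_cons.1 h with rfl | h
    exacts [P.lt, hw l h]

theorem treeGo_sound {T : Table} {n m : ℕ} {Q : ℕ → Prop}
    (hstep : ∀ k i, k < m → Q i → Q (ap (T.pi.getD k 0) i)) :
    ∀ (r : List (ℕ × ℕ × ℕ)) (s : ℕ), treeGo T n m r s = true → (∀ j, s.testBit j = true → Q j) → ∀ j < n, Q j
  | [], s, h, hs, j, hj => hs j (List.all_eq_true.1 h j (List.mem_range.2 hj))
  | (a, k, i) :: r, s, h, hs, j, hj => by
    simp only [treeGo, Bool.and_eq_true, decide_eq_true_eq, beq_iff_eq] at h
    obtain ⟨⟨⟨hk, hi⟩, ha⟩, hr⟩ := h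
    refine treeGo_sound hstep r _ hr (fun b hb => ?_) j hj
    rw [Nat.testBit_or, Bool.or_eq_true, Nat.one_shiftLeft, Nat.testBit_two_pow, decide_eq_true_eq] at hb
    rcases hb with hb | hb
    · exact hs b hb
    · exact hb ▸ ha ▸ hstep k i hk (hs i hi)

theorem seed_bits {Q : ℕ → Prop} (f : ℕ → ℕ) : ∀ (l : List ℕ) (s : ℕ), (∀ k ∈ l, Q (f k)) →
    (∀ j, s.testBit j = true → Q j) →
    ∀ j, (l.foldl (fun s k => s ||| 1 <<< f k) s).testBit j = true → Q j
  | [], _, _, hs, j, hj => hs j hj
  | a :: l, s, hl, hs, j, hj => seed_bits f l _ (fun k hk => hl k (List.mem_cons_of_mem a hk)) (fun b hb => by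
      rw [Nat.testBit_or, Bool.or_eq_true, Nat.one_shiftLeft, Nat.testBit_two_pow, decide_eq_true_eq] at hb
      rcases hb with hb | hb
      · exact hs b hb
      · exact hb ▸ hl a List.mem_cons_self) j hj

theorem ptsOK_mono {T : Table} {N n : ℕ} (h : ptsOK T N n = true) : ∀ i j, i < j → j < n → ap T.pts i < ap T.pts j := by
  simp only [ptsOK, List.all_eq_true, List.mem_range, Bool.and_eq_true, Bool.or_eq_true, decide_eq_true_eq] at h
  intro i j hij
  induction j with
  | zero => omega
  | succ j ih =>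
    intro hj
    have hs : ap T.pts j < ap T.pts (j + 1) := (h j (by omega)).2.resolve_left (by omega)
    rcases Nat.lt_succ_iff_lt_or_eq.1 hij with h' | rfl
    exacts [(ih h' (by omega)).trans hs, hs]

/-- A passing table gives the projective reflection group. -/
theorem Points.proj (P : Points f tabs z p tr) {T : Table} {d n m : ℕ} (h : tableOK T tabs z N d n m = true)
    {S : Set G} (hS : ∀ x : Fin N, tr x ∈ S ↔ ∃ j < n, ap T.pts j = x.val) (hsub : ∀ y ∈ S, ∃ x, tr x = y) :
    IsProjReflectionGroupModThree (↥(closure S) ⧸ center ↥(closure S)) d (2 ^ d) 1 := by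
  simp only [tableOK, Bool.and_eq_true] at h
  obtain ⟨⟨⟨⟨h1, h2⟩, h3⟩, h4⟩, h5⟩ := h
  have hmono := ptsOK_mono h1
  simp only [ptsOK, vecOK, allOK, moveOK, List.all_eq_true, List.mem_range, Bool.and_eq_true, Bool.or_eq_true,
    decide_eq_true_eq, beq_iff_eq] at h1 h2 h3 h4
  let pt : Fin n → Fin N := fun j => ⟨ap T.pts j.val, (h1 j.val j.isLt).1⟩
  let s : Fin n → G := fun j => tr (pt j)
  have hptinj : Function.Injective pt := fun i j e => Fin.ext (by
    have e' : ap T.pts i.val = ap T.pts j.val := congrArg Fin.val e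
    rcases Nat.lt_trichotomy i.val j.val with hlt | he | hlt
    · exact absurd e' (hmono _ _ hlt j.isLt).ne
    · exact he
    · exact absurd e'.symm (hmono _ _ hlt i.isLt).ne)
  let g : Fin m → Fin n := fun k => ⟨T.seeds.getD k.val 0, (h4 k.val k.isLt).1.1.1⟩
  let π : Fin m → Fin n → Fin n := fun k j => ⟨ap (T.pi.getD k.val 0) j.val, ((h4 k.val k.isLt).2 j.val j.isLt).1.1⟩
  have cs : ∀ k j, s (g k) * s j * (s (g k))⁻¹ = s (π k j) := by
    intro k j
    have hk := h4 k.val k.isLt
    have hg : pt (g k) = (wval f (T.words.getD k.val []))⁻¹ • p := Fin.ext (by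
      rw [P.act _ hk.1.1.2, P.zero]
      exact hk.1.2.symm)
    show tr (pt (g k)) * tr (pt j) * (tr (pt (g k)))⁻¹ = _
    rw [← P.smul]
    refine congrArg tr (Fin.ext ?_)
    rw [hg, (P.conj_word hk.1.1.2).2]
    exact (hk.2 j.val j.isLt).1.2
  have hrange : Set.range s = S := by
    refine Set.Subset.antisymm ?_ fun y hy => ?_
    · rintro _ ⟨j, rfl⟩
      exact (hS _).2 ⟨j.val, j.isLt, rfl⟩
    · obtain ⟨x, rfl⟩ := hsub y hy
      obtain ⟨j, hj, e⟩ := (hS x).1 hy
      exact ⟨⟨j, hj⟩, congrArg tr (Fin.ext e)⟩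
  have hfin := proj_of_table s (P.inj.comp hptinj) (fun j => vecN d (ap T.vcode j.val)) (fun j => (h2 j.val j.isLt).1.1)
    (fun i j e => Fin.ext (by
      rcases e with e | e
      · rw [← (h2 i.val i.isLt).1.2, e, (h2 j.val j.isLt).1.2]
      · rw [← (h2 i.val i.isLt).1.2, e, (h2 j.val j.isLt).2]))
    (fun x hx => by
      obtain ⟨hlt, e⟩ := vecN_code x
      rcases h3 (codeV x) hlt with h' | ⟨hj, h'⟩
      · exact absurd (e.symm ▸ hx) h'
      · rw [e] at h'
        exact ⟨⟨_, hj⟩, h'⟩)
    g π cs (fun k j => ((h4 k.val k.isLt).2 j.val j.isLt).2)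
    (fun Q hg hstep j => by
      obtain ⟨_, hq⟩ : ∃ hlt : j.val < n, Q ⟨j.val, hlt⟩ := by
        refine treeGo_sound (Q := fun i => ∃ hlt : i < n, Q ⟨i, hlt⟩) (fun k i hk ⟨hi, hq⟩ => ?_) _ _ h5 ?_ j.val
          j.isLt
        · exact ⟨_, hstep ⟨k, hk⟩ ⟨i, hi⟩ hq⟩
        · exact seed_bits _ _ _ (fun k hk => ⟨_, hg ⟨k, List.mem_range.1 hk⟩⟩) (fun b hb => by simp at hb)
      exact hq)
  subst hrange
  exact hfin

/-- The test deciding the common neighbours at one point. -/
def pairAt (T : Table) (tabs : List PP) (z n mask : ℕ) (w : List ℕ) (y : ℕ) : Bool :=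
  (((evalW tabs [z] y == y) && (evalW tabs (w.reverse ++ z :: w) y == y) && (y != 0) && (y != evalW tabs w 0)) ==
      mask.testBit y) &&
    (!mask.testBit y || (List.range n).any fun j => ap T.pts j == y)

/-- The listed points are in the mask. -/
def maskOK (T : Table) (n mask : ℕ) : Bool := (List.range n).all fun j => mask.testBit (ap T.pts j)

theorem Points.commute_iff (P : Points f tabs z p tr) (g : G) (x : Fin N) : Commute g (tr x) ↔ g • x = x := by
  constructor
  · intro h
    exact P.inj (by rw [P.smul, h.eq, mul_inv_cancel_right])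
  · intro h
    have := P.smul g x
    rw [h] at this
    exact (eq_mul_inv_iff_mul_eq.1 this).symm

theorem Points.single (P : Points f tabs z p tr) (x : Fin N) : (tr p • x : Fin N).val = evalW tabs [z] x.val := by
  have h := (P.conj_word (w := []) (by simp)).2 x
  rwa [show ((wval f [])⁻¹ • p : Fin N) = p by simp [wval]] at h

/-- The common neighbours of two members. -/
theorem Points.pair (P : Points f tabs z p tr) {D : Set G} (hD : ∀ x, tr x ∈ D) {T : Table} {n mask : ℕ}
    {w : List ℕ} (hw : ∀ l ∈ w, l < tabs.length) (h : ∀ y < N, pairAt T tabs z n mask w y = true)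
    (hm : maskOK T n mask = true) (x : Fin N) :
    tr x ∈ Cfsg.Lib.ThreeTr.perp D (f z) ∩ Cfsg.Lib.ThreeTr.perp D (tr ((wval f w)⁻¹ • p)) ↔
      ∃ j < n, ap T.pts j = x.val := by
  have hx := h x.val x.isLt
  simp only [pairAt, Bool.and_eq_true, beq_iff_eq] at hx
  have key : tr x ∈ Cfsg.Lib.ThreeTr.perp D (f z) ∩ Cfsg.Lib.ThreeTr.perp D (tr ((wval f w)⁻¹ • p)) ↔
      mask.testBit x.val = true := by
    rw [← hx.1]
    simp only [Cfsg.Lib.ThreeTr.perp, Set.mem_inter_iff, Set.mem_ofPred_eq, hD x, true_and, ne_eq, ← P.base,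
      P.inj.eq_iff, P.commute_iff, Fin.ext_iff, P.zero, P.single, (P.conj_word hw).2, P.act w hw,
      Bool.and_eq_true, beq_iff_eq, bne_iff_ne]
    tauto
  rw [key]
  constructor
  · intro hb
    have h2 := hx.2
    rw [hb, Bool.not_true, Bool.false_or, List.any_eq_true] at h2
    obtain ⟨j, hj, e⟩ := h2
    exact ⟨j, List.mem_range.1 hj, beq_iff_eq.1 e⟩
  · rintro ⟨j, hj, e⟩
    rw [← e]
    exact List.all_eq_true.1 hm j (List.mem_range.2 hj)

/-- The two members do not commute. -/
theorem Points.apart (P : Points f tabs z p tr) {w : List ℕ} (hw : ∀ l ∈ w, l < tabs.length)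
    (h : (evalW tabs [z] (evalW tabs w 0) != evalW tabs w 0) = true) :
    ¬ Commute (f z) (tr ((wval f w)⁻¹ • p)) := by
  rw [← P.base, P.commute_iff, Fin.ext_iff, P.single, P.act w hw, P.zero]
  exact bne_iff_ne.1 h

end Cfsg.Lib.FiTypes
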