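import Cfsg.Agent.FiTypes.TwoData
import Cfsg.Agent.FiPres.AutPoints
import Cfsg.Agent.FiPres.Transp
import Cfsg.Agent.ThreeTransposition.RelationTypes

/-!
The model on 3510 points is of type M(22).
-/

set_option autoImplicit false
set_option linter.unusedSectionVars false
set_option linter.style.haveILetI false
set_option maxRecDepth 100000

namespace Cfsg.Lib.FiTypes

open Cfsg Subgroup Cfsg.Lib.CosetCert Cfsg.Lib.PermCert Cfsg.Lib.ThreeTr

theorem two_table : tableOK twoTab FiPres.sigTabs 0 3510 6 126 6 = true := by decide +kernel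

theorem two_pair : ((List.range 3510).all fun y => pairAt twoTab FiPres.sigTabs 0 126 twoMask [1] y) = true := by
  decide +kernel

theorem two_mask : maskOK twoTab 126 twoMask = true := by decide +kernel

theorem two_apart : (evalW FiPres.sigTabs [0] (evalW FiPres.sigTabs [1] 0) != evalW FiPres.sigTabs [1] 0) = true := by
  decide +kernel

theorem two_points : Points FiPres.im10 FiPres.sigTabs 0 FiPres.p0 FiPres.tr where
  zero := rfl
  lt := by decide
  base := by
    have := FiPres.tr_orbit 1
    rwa [one_smul, one_mul, inv_one, mul_one] at this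
  sq l hl := FiPres.tabled.sq l hl
  inj := FiPres.tr_injective
  smul := FiPres.tr_smul
  act w hw x := by
    rw [FiPres.smul_eq, map_inv]
    exact evalW_apply FiPres.im10 FiPres.psi FiPres.sigTabs FiPres.tabled.act w hw x

theorem two_mem (x : Fin 3510) : FiPres.tr x ∈ FiPres.transp := by
  haveI := FiPres.transitive
  obtain ⟨g, rfl⟩ := MulAction.exists_smul_eq Cfsg.Spor.Fi22 FiPres.p0 x
  rw [FiPres.tr_orbit]
  exact FiPres.mem_transp.2 ⟨g, rfl⟩

/-- The second member. -/
noncomputable def twoC : Cfsg.Spor.Fi22 := FiPres.tr ((wval FiPres.im10 [1])⁻¹ • FiPres.p0)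

theorem two_not_commute : ¬ Commute (FiPres.im10 0) twoC := two_points.apart (by decide) two_apart

theorem two_neighbour : (perp FiPres.transp (FiPres.im10 0) ∩ perp FiPres.transp twoC).Nonempty := by
  refine ⟨FiPres.tr (Fin.ofNat 3510 (ap twoTab.pts 0)), (two_points.pair two_mem (w := [1]) (by decide)
    (fun y hy => List.all_eq_true.1 two_pair y (List.mem_range.2 hy)) two_mask _).2 ⟨0, by norm_num, ?_⟩⟩
  exact (Nat.mod_eq_of_lt (by decide +kernel)).symm

theorem two_center : center Cfsg.Spor.Fi22 = ⊥ := by
  haveI := FiPres.simple_fi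
  exact center_eq_bot_of_simple two_not_commute

theorem two_three_group : IsThreeTranspositionGroup FiPres.transp :=
  ⟨FiPres.transp_class.1, fun g d hd => conj_mem FiPres.transp_class g hd, FiPres.transp_class.2.2⟩

theorem two_primitive : IsPrimitiveUnderConj FiPres.transp := by
  haveI := FiPres.simple_fi
  haveI := FiPres.finite_fi
  obtain ⟨y, hy, -⟩ := two_neighbour
  refine primitive_of_simple FiPres.transp_class two_center
    ⟨FiPres.im10 0, IsConj.refl _, y, hy.1, hy.2.1.symm, hy.2.2⟩ ?_
  rw [commutator_eq_top_of_simple two_not_commute]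
  exact MulEquiv.isSimpleGroup Subgroup.topEquiv

theorem kquad_card : Fintype.card Cfsg.Lib.PrimeGraph.KQuad = 4 := by decide +kernel

/-- The model is of type M(22). -/
theorem two_type : IsOfTypeM22 Cfsg.Spor.Fi22 FiPres.transp := by
  haveI := FiPres.finite_fi
  have hd : FiPres.im10 0 ∈ FiPres.transp := IsConj.refl _
  refine ⟨two_center, FiPres.im10 0, hd, twoC, two_mem _, two_not_commute,
    ⟨Cfsg.Lib.PrimeGraph.KQuad, inferInstance, inferInstance, kquad_card, ?_⟩, 1, one_ne_zero, ?_⟩
  · show Nonempty (↥(closure (perp FiPres.transp (FiPres.im10 0))) ⧸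
      center ↥(closure (perp FiPres.transp (FiPres.im10 0))) ≃* PSU 6 Cfsg.Lib.PrimeGraph.KQuad 2)
    have hC := FiPres.centralizer_transp hd
    obtain ⟨y, hy, -⟩ := two_neighbour
    haveI : IsSimpleGroup (PSU 6 Cfsg.Lib.PrimeGraph.KQuad 2) := (psu_six_facts kquad_card).2.1
    rw [closure_perp_eq_centralizer FiPres.transp_class hd hC ⟨y, hy⟩]
    exact hC.2.1
  · show IsProjReflectionGroupModThree (↥(closure (perp FiPres.transp (FiPres.im10 0) ∩ perp FiPres.transp twoC)) ⧸
      center ↥(closure (perp FiPres.transp (FiPres.im10 0) ∩ perp FiPres.transp twoC))) 6 1 1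
    have h := two_points.proj two_table
      (two_points.pair two_mem (w := [1]) (by decide) (fun y hy => List.all_eq_true.1 two_pair y (List.mem_range.2 hy))
        two_mask) (fun y hy => FiPres.exists_point hy.1.1)
    rwa [show (2 : F3) ^ 6 = 1 by decide] at h

end Cfsg.Lib.FiTypes
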